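import Mathlib.AlgebraicGeometry.Gluing
import Mathlib.AlgebraicGeometry.Noetherian
import Mathlib.AlgebraicGeometry.SpreadingOut
import Mathlib.CategoryTheory.Limits.Shapes.BinaryProducts

/-!
# Glueing two morphisms defined on two opens of a scheme; integral neighbourhoods

* `exists_glue_sup`: glueing of `f : U ⟶ Y` and `g : W ⟶ Y` along `U ⊓ W` to `U ⊔ W ⟶ Y`.
* `exists_isIntegral_nhd`: a point of a locally Noetherian scheme whose local ring is a domain has an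
  affine integral open neighbourhood.
-/

set_option autoImplicit false
universe u

open CategoryTheory AlgebraicGeometry Limits TopologicalSpace

namespace Groth.Agent.Ega4late.H542.GlueSup

/-- the open cover given by two open immersions -/
noncomputable def cov {X X₁ X₂ : Scheme.{u}} (o₁ : X₁ ⟶ X) (o₂ : X₂ ⟶ X)
    [IsOpenImmersion o₁] [IsOpenImmersion o₂]
    (hcov : ∀ x : X, x ∈ Set.range o₁ ∨ x ∈ Set.range o₂) : X.OpenCover :=
  Scheme.Cover.mkOfCovers (J := WalkingPair) (fun b => b.rec X₁ X₂)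
    (fun b => WalkingPair.rec (motive := fun b => (WalkingPair.rec X₁ X₂ b : Scheme.{u}) ⟶ X) o₁ o₂ b)
    (fun x => (hcov x).elim (fun ⟨y, hy⟩ => ⟨.left, y, hy⟩) (fun ⟨y, hy⟩ => ⟨.right, y, hy⟩))
    (fun b => by cases b <;> infer_instance)

/-- Glueing two morphisms defined on two opens of a scheme to the union of these opens. -/
theorem exists_glue_sup {X Y : Scheme.{u}} (U W : X.Opens)
    (f : (U : Scheme.{u}) ⟶ Y) (g : (W : Scheme.{u}) ⟶ Y)
    (h : X.homOfLE (inf_le_left : U ⊓ W ≤ U) ≫ f = X.homOfLE (inf_le_right : U ⊓ W ≤ W) ≫ g) :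
    ∃ k : ((U ⊔ W : X.Opens) : Scheme.{u}) ⟶ Y,
      X.homOfLE (le_sup_left : U ≤ U ⊔ W) ≫ k = f ∧ X.homOfLE (le_sup_right : W ≤ U ⊔ W) ≫ k = g := by
  have h12 : ∀ {Z : Scheme.{u}} (a : Z ⟶ U) (b : Z ⟶ W), a ≫ U.ι = b ≫ W.ι → a ≫ f = b ≫ g := by
    intro Z a b hab
    let l : Z ⟶ (U ⊓ W : X.Opens) := IsOpenImmersion.lift (U ⊓ W : X.Opens).ι (a ≫ U.ι) (by
      rw [Scheme.Opens.range_ι]
      rintro _ ⟨z, rfl⟩
      refine ⟨(a z).2, ?_⟩
      rw [hab]
      exact (b z).2)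
    have hl : l ≫ (U ⊓ W : X.Opens).ι = a ≫ U.ι := IsOpenImmersion.lift_fac _ _ _
    have hla : l ≫ X.homOfLE (inf_le_left : U ⊓ W ≤ U) = a := by
      rw [← cancel_mono U.ι, Category.assoc, Scheme.homOfLE_ι, hl]
    have hlb : l ≫ X.homOfLE (inf_le_right : U ⊓ W ≤ W) = b := by
      rw [← cancel_mono W.ι, Category.assoc, Scheme.homOfLE_ι, hl, hab]
    rw [← hla, ← hlb, Category.assoc, Category.assoc, h]
  have hι₁ : X.homOfLE (le_sup_left : U ≤ U ⊔ W) ≫ (U ⊔ W : X.Opens).ι = U.ι := X.homOfLE_ι _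
  have hι₂ : X.homOfLE (le_sup_right : W ≤ U ⊔ W) ≫ (U ⊔ W : X.Opens).ι = W.ι := X.homOfLE_ι _
  have hcov : ∀ x : ((U ⊔ W : X.Opens) : Scheme.{u}),
      x ∈ Set.range (X.homOfLE (le_sup_left : U ≤ U ⊔ W)) ∨
        x ∈ Set.range (X.homOfLE (le_sup_right : W ≤ U ⊔ W)) := by
    rintro ⟨x, hx⟩
    rcases hx with hx | hx
    · left
      refine ⟨⟨x, hx⟩, ?_⟩
      apply (U ⊔ W : X.Opens).ι.isOpenEmbedding.injective
      exact congr($hι₁ (show (U : Scheme.{u}) from ⟨x, hx⟩))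
    · right
      refine ⟨⟨x, hx⟩, ?_⟩
      apply (U ⊔ W : X.Opens).ι.isOpenEmbedding.injective
      exact congr($hι₂ (show (W : Scheme.{u}) from ⟨x, hx⟩))
  let 𝒰 := cov (X.homOfLE (le_sup_left : U ≤ U ⊔ W)) (X.homOfLE (le_sup_right : W ≤ U ⊔ W)) hcov
  let F : ∀ i, 𝒰.X i ⟶ Y := fun i => by
    cases i
    · exact f
    · exact g
  have hF : ∀ i j, pullback.fst (𝒰.f i) (𝒰.f j) ≫ F i = pullback.snd _ _ ≫ F j := by
    rintro (_ | _) (_ | _)
    · have : pullback.fst (X.homOfLE (le_sup_left : U ≤ U ⊔ W)) (X.homOfLE (le_sup_left : U ≤ U ⊔ W)) =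
          pullback.snd _ _ := by
        rw [← cancel_mono (X.homOfLE (le_sup_left : U ≤ U ⊔ W)), pullback.condition]
      exact congr($this ≫ f)
    · refine h12 _ _ ?_
      rw [← hι₁, ← hι₂]
      exact pullback.condition_assoc _
    · refine (h12 _ _ ?_).symm
      rw [← hι₁, ← hι₂]
      exact (pullback.condition_assoc _).symm
    · have : pullback.fst (X.homOfLE (le_sup_right : W ≤ U ⊔ W)) (X.homOfLE (le_sup_right : W ≤ U ⊔ W)) =
          pullback.snd _ _ := by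
        rw [← cancel_mono (X.homOfLE (le_sup_right : W ≤ U ⊔ W)), pullback.condition]
      exact congr($this ≫ g)
  exact ⟨Scheme.Cover.glueMorphisms 𝒰 F hF, Scheme.Cover.ι_glueMorphisms 𝒰 F hF .left,
    Scheme.Cover.ι_glueMorphisms 𝒰 F hF .right⟩

/-- Two morphisms on `U ⊔ W` agreeing on `U` and on `W` are equal. -/
theorem hom_ext_sup {X Y : Scheme.{u}} (U W : X.Opens) {k k' : ((U ⊔ W : X.Opens) : Scheme.{u}) ⟶ Y}
    (h₁ : X.homOfLE (le_sup_left : U ≤ U ⊔ W) ≫ k = X.homOfLE (le_sup_left : U ≤ U ⊔ W) ≫ k')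
    (h₂ : X.homOfLE (le_sup_right : W ≤ U ⊔ W) ≫ k = X.homOfLE (le_sup_right : W ≤ U ⊔ W) ≫ k') :
    k = k' := by
  have hι₁ : X.homOfLE (le_sup_left : U ≤ U ⊔ W) ≫ (U ⊔ W : X.Opens).ι = U.ι := X.homOfLE_ι _
  have hι₂ : X.homOfLE (le_sup_right : W ≤ U ⊔ W) ≫ (U ⊔ W : X.Opens).ι = W.ι := X.homOfLE_ι _
  have hcov : ∀ x : ((U ⊔ W : X.Opens) : Scheme.{u}),
      x ∈ Set.range (X.homOfLE (le_sup_left : U ≤ U ⊔ W)) ∨
        x ∈ Set.range (X.homOfLE (le_sup_right : W ≤ U ⊔ W)) := by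
    rintro ⟨x, hx⟩
    rcases hx with hx | hx
    · left
      refine ⟨⟨x, hx⟩, ?_⟩
      apply (U ⊔ W : X.Opens).ι.isOpenEmbedding.injective
      exact congr($hι₁ (show (U : Scheme.{u}) from ⟨x, hx⟩))
    · right
      refine ⟨⟨x, hx⟩, ?_⟩
      apply (U ⊔ W : X.Opens).ι.isOpenEmbedding.injective
      exact congr($hι₂ (show (W : Scheme.{u}) from ⟨x, hx⟩))
  refine Scheme.Cover.hom_ext
    (cov (X.homOfLE (le_sup_left : U ≤ U ⊔ W)) (X.homOfLE (le_sup_right : W ≤ U ⊔ W)) hcov) _ _ ?_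
  rintro (_ | _)
  · exact h₁
  · exact h₂

/-- A point of a germ-injective (e.g. locally Noetherian) scheme whose local ring is a domain has an affine
open neighbourhood which is an integral scheme. -/
theorem exists_isIntegral_nhd {X : Scheme.{u}} (x : X) [X.IsGermInjectiveAt x]
    [IsDomain (X.presheaf.stalk x)] :
    ∃ W : X.Opens, x ∈ W ∧ IsAffineOpen W ∧ IsIntegral (W : Scheme.{u}) := by
  obtain ⟨W, hxW, hW, H⟩ := X.exists_germ_injective x
  have : IsDomain Γ(X, W) := Function.Injective.isDomain (X.presheaf.germ W x hxW).hom H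
  refine ⟨W, hxW, hW, ?_⟩
  have : Nonempty (W : Scheme.{u}) := ⟨⟨x, hxW⟩⟩
  have hI : IsIntegral (Spec Γ(X, W)) := inferInstance
  exact isIntegral_of_isOpenImmersion hW.isoSpec.hom

end Groth.Agent.Ega4late.H542.GlueSup
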